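import Cfsg.Agent.Lib.Chev.G2ShortInvolution
import Cfsg.Agent.Lib.Chev.Sylow

/-!
The two classes of involutions of `G₂(q)`, `q` even.
-/

set_option autoImplicit false
set_option linter.unusedSectionVars false
set_option maxRecDepth 100000

namespace Cfsg.Agent.Chev.G2Invol

open Cfsg.Lie Cfsg.Agent.Chev.G2Short

theorem two_lists : G2.cert.w 0 6 = 10 ∧ G2.cert.w 0 8 = 9 ∧ G2.cert.w 0 10 = 6 ∧
    G2.cert.w 0 9 = 8 ∧ G2.cert.ng 7 ≠ 6 ∧ G2.cert.ng 7 ≠ 8 := by decide +kernel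

variable {F : Type*} [Field F]

/-- The root element, for short. -/
local notation "X" => xg chevG2 F

variable [CharP F 2]

theorem xinv (r : ℕ) (t : F) : (X r t)⁻¹ = X r t := by
  rw [(G2.good : Good chevG2).xg_inv, CharTwo.neg_eq]

theorem xsq (r : ℕ) (t : F) : X r t * X r t = 1 := by
  rw [(G2.good : Good chevG2).xg_add, CharTwo.add_self_eq_zero, (G2.good : Good chevG2).xg_zero]

theorem el_sq (a b c : F) : el a b c * el a b c = 1 := by
  rw [el_mul, CharTwo.add_self_eq_zero, CharTwo.add_self_eq_zero, CharTwo.add_self_eq_zero, el_zero]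

theorem cast_eq_one {m : ℤ} (hm : m % 2 ≠ 0) : (m : F) = 1 := by
  have hdvd : (2 : ℤ) ∣ m - 1 := by omega
  have : ((m - 1 : ℤ) : F) = 0 := (CharP.intCast_eq_zero_iff F 2 _).2 (by exact_mod_cast hdvd)
  push_cast at this
  exact sub_eq_zero.1 this

theorem three : (3 : F) = 1 := by
  simpa using cast_eq_one (F := F) (m := 3) (by norm_num)

/-- The word in `[x_7, x_6]`. -/
theorem comm76 (t u : F) : X 6 u * X 7 t =
    X 7 t * X 6 u * (X 8 (t * u) * el (t ^ 2 * u) (t ^ 3 * u) (t ^ 3 * u ^ 2)) := by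
  have hD : Good chevG2 := G2.good
  rw [hD.xg_comm (r := 7) (s := 6) (hn ▸ (by omega)) (hn ▸ (by omega)) (by omega)
    (by rw [G2.valid.ng_eq (hn ▸ (by omega))]; exact Ne.symm two_lists.2.2.2.2.1) t u,
    ChevalleyDatum.commWord, G2.valid.comm_eq (hn ▸ (by omega)) (hn ▸ (by omega)),
    list_facts.2.2.2.2.2.2.2.1]
  simp [wordG, el, CharTwo.neg_eq, mul_assoc]

/-- The word in `[x_7, x_8]`. -/
theorem comm78 (t u : F) : X 8 u * X 7 t =
    X 7 t * X 8 u * el 0 (t ^ 2 * u) (t * u ^ 2) := by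
  have hD : Good chevG2 := G2.good
  have h2 : (2 : F) = 0 := CharTwo.two_eq_zero
  rw [hD.xg_comm (r := 7) (s := 8) (hn ▸ (by omega)) (hn ▸ (by omega)) (by omega)
    (by rw [G2.valid.ng_eq (hn ▸ (by omega))]; exact Ne.symm two_lists.2.2.2.2.2) t u,
    ChevalleyDatum.commWord, G2.valid.comm_eq (hn ▸ (by omega)) (hn ▸ (by omega)),
    list_facts.2.2.2.2.2.2.1]
  simp [wordG, el, h2, three (F := F), CharTwo.neg_eq, hD.xg_zero, mul_assoc]

theorem el_mul_x8 (a b c q : F) : el a b c * X 8 q = X 8 q * el a b (c + a * q) := by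
  rw [← conj8 q a b c, xinv, ← mul_assoc, ← mul_assoc, xsq, one_mul]

/-- `W8 q g`: `g = x_8(q) x_9 x_10 x_11`. -/
def W8 (q : F) (g : GL chevG2.Idx F) : Prop := ∃ a b c : F, g = X 8 q * el a b c

theorem W8.mul {q q' : F} {g g' : GL chevG2.Idx F} (h : W8 q g) (h' : W8 q' g') :
    W8 (q + q') (g * g') := by
  obtain ⟨a, b, c, rfl⟩ := h
  obtain ⟨a', b', c', rfl⟩ := h'
  refine ⟨a + a', b + b', c + a * q' + c', ?_⟩
  rw [mul_assoc, ← mul_assoc (el a b c), el_mul_x8, mul_assoc, el_mul, ← mul_assoc,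
    (G2.good : Good chevG2).xg_add]

theorem conj7_x8 (v q a b c : F) :
    X 7 v * (X 8 q * el a b c) * (X 7 v)⁻¹ =
      X 8 q * el a (v ^ 2 * q + b + a * v) (v * q ^ 2 + c) := by
  have h1 : X 7 v * (X 8 q * el a b c) * (X 7 v)⁻¹ =
      (X 7 v * X 8 q * (X 7 v)⁻¹) * (X 7 v * el a b c * (X 7 v)⁻¹) := by group
  have h2 : X 7 v * X 8 q * (X 7 v)⁻¹ = X 8 q * el 0 (v ^ 2 * q) (v * q ^ 2) := by
    have e := comm78 (F := F) v q
    have e' : X 7 v * X 8 q = X 8 q * X 7 v * el 0 (v ^ 2 * q) (v * q ^ 2) := by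
      rw [e, mul_assoc (X 7 v * X 8 q), el_sq, mul_one]
    rw [e', mul_assoc, mul_assoc, ← mul_assoc (X 7 v), conj7, zero_mul, add_zero]
  rw [h1, conj7, h2, mul_assoc, el_mul]
  congr 2 <;> ring

theorem conj6_x8 (v q a b c : F) :
    X 6 v * (X 8 q * el a b c) * (X 6 v)⁻¹ = X 8 q * el a b (c + b * v) := by
  rw [← mul_assoc, (comm2 (by simp) v q : Commute (X 6 v) (X 8 q)).eq, mul_assoc, mul_assoc,
    ← mul_assoc (X 6 v), conj6]

theorem W8.conj6 {q : F} {g : GL chevG2.Idx F} (h : W8 q g) (v : F) : W8 q (X 6 v * g * (X 6 v)⁻¹) := by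
  obtain ⟨a, b, c, rfl⟩ := h
  exact ⟨_, _, _, conj6_x8 v q a b c⟩

theorem W8.conj7 {q : F} {g : GL chevG2.Idx F} (h : W8 q g) (v : F) : W8 q (X 7 v * g * (X 7 v)⁻¹) := by
  obtain ⟨a, b, c, rfl⟩ := h
  exact ⟨_, _, _, conj7_x8 v q a b c⟩

theorem el_ext {a b c a' b' c' : F} (h : el a b c = el a' b' c') : a = a' ∧ b = b' ∧ c = c' := by
  obtain ⟨hA09, hA19, hA110, hA111⟩ := list_facts.2.2.2.2.2.2.2.2.2.2.2
  have hent : ∀ i < 2, ∀ s < 12,
      (if s = 9 then (G2.cert.A i 9 : F) * a else 0) + (if s = 10 then (G2.cert.A i 10 : F) * b else 0) +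
        (if s = 11 then (G2.cert.A i 11 : F) * c else 0) =
      (if s = 9 then (G2.cert.A i 9 : F) * a' else 0) + (if s = 10 then (G2.cert.A i 10 : F) * b' else 0) +
        (if s = 11 then (G2.cert.A i 11 : F) * c' else 0) := by
    intro i hi s hs
    have e := congrArg (fun g : GL chevG2.Idx F =>
      ((g : Matrix chevG2.Idx chevG2.Idx F).mulVec (bvec chevG2 F i)) (Sum.inr ⟨s, hn ▸ hs⟩)) h
    simp only [el] at e
    rw [three_entry (by omega) (by omega) (by omega) list_facts.1 list_facts.2.1 list_facts.2.2.1 _ _ _ _ hi s hs,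
      three_entry (by omega) (by omega) (by omega) list_facts.1 list_facts.2.1 list_facts.2.2.1 _ _ _ _ hi s hs,
      neg_inj] at e
    exact e
  exact ⟨by simpa [hA09] using hent 0 (by omega) 9 (by omega),
    by simpa [hA110] using hent 1 (by omega) 10 (by omega),
    by simpa [hA111] using hent 1 (by omega) 11 (by omega)⟩

theorem el_eq_one {a b c : F} (h : el a b c = 1) : a = 0 ∧ b = 0 ∧ c = 0 :=
  el_ext (h.trans el_zero.symm)

theorem W8.eq_zero {q : F} (h : W8 q (1 : GL chevG2.Idx F)) : q = 0 := by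
  obtain ⟨a, b, c, h⟩ := h
  have hx : X 8 q = el a b c := by
    have h' := congrArg (· * el a b c) h
    simp only [one_mul, mul_assoc, el_sq, mul_one] at h'
    exact h'.symm
  have h1 := conj8 (F := F) q 1 0 0
  rw [hx, conj_el] at h1
  simpa using (el_ext h1).2.2.symm

/-! ### Conjugating into the two representatives -/

/-- `g` is conjugate to one of the representatives. -/
def Rep (g : GL chevG2.Idx F) : Prop :=
  ∃ h ∈ chevG2.group F, h * g * h⁻¹ = X 11 1 ∨ h * g * h⁻¹ = X 9 1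

omit [CharP F 2] in
theorem Rep.of_conj {g h : GL chevG2.Idx F} (hh : h ∈ chevG2.group F) (hr : Rep (h * g * h⁻¹)) :
    Rep g := by
  obtain ⟨k, hk, h'⟩ := hr
  refine ⟨k * h, mul_mem hk hh, ?_⟩
  simpa [mul_assoc] using h'

omit [CharP F 2] in
theorem sq_conj {g : GL chevG2.Idx F} (h : GL chevG2.Idx F) (hg : g * g = 1) :
    (h * g * h⁻¹) * (h * g * h⁻¹) = 1 := by
  calc (h * g * h⁻¹) * (h * g * h⁻¹) = h * (g * g) * h⁻¹ := by group
    _ = 1 := by rw [hg, mul_one, mul_inv_cancel]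

theorem refl_conj {i s : ℕ} (hi : i < 2) (hs : s < 12) (u : F) :
    nG chevG2 F (chevG2.simple i) 1 * X s u * (nG chevG2 F (chevG2.simple i) 1)⁻¹ =
      X (G2.cert.w i s) u := by
  have hD : Good chevG2 := G2.good
  obtain ⟨η, h1, h2⟩ := hD.exists_sign_xg (F := F) (i := i) (hk ▸ hi)
  have hη : η s = 1 := by
    have h3 : (η s - 1) * (η s - 1) = 0 := by
      have h2' : (2 : F) = 0 := CharTwo.two_eq_zero
      have := (h1 s (hn ▸ hs)).1
      linear_combination this - (η s - 1) * h2'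
    exact sub_eq_zero.1 (mul_self_eq_zero.1 h3)
  rw [h2 s (hn ▸ hs), hη, one_mul, mul_inv_cancel_right,
    G2.valid.w_eq_reflectRoot (hk ▸ hi) (hn ▸ hs)]

theorem rep_root {t : F} (ht : t ≠ 0) : Rep (X 9 t) ∧ Rep (X 11 t) := by
  have hD : Good chevG2 := G2.good
  have key : ∀ i < 2, ∀ s < 12, G2.cert.A i s = 1 →
      hG chevG2 F (chevG2.simple i) t⁻¹ * X s t * (hG chevG2 F (chevG2.simple i) t⁻¹)⁻¹ = X s 1 := by
    intro i hi s hs hA
    rw [hD.hG_mul_xg (hk ▸ hi) (hn ▸ hs) (inv_ne_zero ht), mul_inv_cancel_right,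
      G2.valid.A_eq (hk ▸ hi) (hn ▸ hs), hA, zpow_one, inv_mul_cancel₀ ht]
  obtain ⟨h09, -, -, h111⟩ := list_facts.2.2.2.2.2.2.2.2.2.2.2
  exact ⟨⟨_, hD.hG_mem_group _ _, Or.inr (key 0 (by omega) 9 (by omega) h09)⟩,
    ⟨_, hD.hG_mem_group _ _, Or.inl (key 1 (by omega) 11 (by omega) h111)⟩⟩

theorem rep_el (a b c : F) (h : el a b c ≠ 1) : Rep (el a b c) := by
  have hD : Good chevG2 := G2.good
  by_cases ha : a = 0
  · subst ha
    by_cases hb : b = 0
    · subst hb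
      rw [el_eq11] at h ⊢
      exact (rep_root (fun e => h (by rw [e, hD.xg_zero]))).2
    · refine Rep.of_conj (hD.xg_mem_group 6 (c / b)) ?_
      rw [conj6, mul_div_cancel₀ c hb, CharTwo.add_self_eq_zero, el_eq10]
      refine Rep.of_conj (hD.nG_mem_group (chevG2.simple 1) 1) ?_
      rw [refl_conj (by omega) (by omega), refl_facts.2.2.2.2.1]
      exact (rep_root hb).2
  · refine Rep.of_conj (hD.xg_mem_group 7 (b / a)) ?_
    rw [conj7, mul_div_cancel₀ b ha, CharTwo.add_self_eq_zero]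
    refine Rep.of_conj (hD.xg_mem_group 8 (c / a)) ?_
    rw [conj8, mul_div_cancel₀ c ha, CharTwo.add_self_eq_zero, el_eq9]
    exact (rep_root ha).1

theorem conj7_x6 (v f : F) :
    ∃ b c : F, X 7 v * X 6 f * (X 7 v)⁻¹ = X 6 f * (X 8 (v * f) * el (v ^ 2 * f) b c) := by
  have e := comm76 (F := F) v f
  set W := X 8 (v * f) * el (v ^ 2 * f) (v ^ 3 * f) (v ^ 3 * f ^ 2) with hW
  have hinv : X 7 v * X 6 f = X 6 f * X 7 v * W⁻¹ := by rw [e, mul_inv_cancel_right]
  have hWi : W⁻¹ = X 8 (v * f) * el (v ^ 2 * f) (v ^ 3 * f) (v ^ 3 * f ^ 2 + v ^ 2 * f * (v * f)) := by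
    rw [hW, mul_inv_rev, xinv, el_inv, CharTwo.neg_eq, CharTwo.neg_eq, CharTwo.neg_eq, el_mul_x8]
  obtain ⟨b, c, h⟩ : ∃ b c : F, X 7 v * W⁻¹ * (X 7 v)⁻¹ = X 8 (v * f) * el (v ^ 2 * f) b c := by
    rw [hWi, conj7_x8]; exact ⟨_, _, rfl⟩
  refine ⟨b, c, ?_⟩
  rw [hinv, ← h]
  group

theorem rep_six {f : F} (hf : f ≠ 0) (q a b c : F) (hsq : ∀ v : F, ∃ w : F, w ^ 2 = v)
    (h1 : X 6 f * (X 8 q * el a b c) * (X 6 f * (X 8 q * el a b c)) = 1) :
    Rep (X 6 f * (X 8 q * el a b c)) := by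
  have hD : Good chevG2 := G2.good
  obtain ⟨v, hv⟩ := hsq (a / f)
  refine Rep.of_conj (hD.xg_mem_group 7 v) ?_
  obtain ⟨b₁, c₁, e1⟩ := conj7_x6 v f
  have e : X 7 v * (X 6 f * (X 8 q * el a b c)) * (X 7 v)⁻¹ =
      X 6 f * (X 8 (v * f + q) * el 0 (b₁ + (v ^ 2 * q + b + a * v)) (c₁ + v ^ 2 * f * q + (v * q ^ 2 + c))) := by
    rw [show X 7 v * (X 6 f * (X 8 q * el a b c)) * (X 7 v)⁻¹ =
      (X 7 v * X 6 f * (X 7 v)⁻¹) * (X 7 v * (X 8 q * el a b c) * (X 7 v)⁻¹) by group, e1, conj7_x8,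
      mul_assoc, mul_assoc (X 8 (v * f)), ← mul_assoc (el _ b₁ c₁), el_mul_x8, mul_assoc (X 8 q), el_mul,
      ← mul_assoc (X 8 (v * f)), hD.xg_add, show v ^ 2 * f + a = 0 by
        rw [hv, div_mul_cancel₀ a hf, CharTwo.add_self_eq_zero]]
  have h2 := sq_conj (X 7 v) h1
  rw [e] at h2 ⊢
  generalize v * f + q = q' at h2 ⊢
  generalize b₁ + (v ^ 2 * q + b + a * v) = B at h2 ⊢
  generalize c₁ + v ^ 2 * f * q + (v * q ^ 2 + c) = C at h2 ⊢
  have hB : B = 0 := by
    have h3 : X 6 f * (X 8 q' * el 0 B C) * (X 6 f)⁻¹ * (X 8 q' * el 0 B C) = 1 := by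
      simpa only [xinv, mul_assoc] using h2
    rw [conj6_x8, mul_assoc, ← mul_assoc (el _ _ _), el_mul_x8, mul_assoc, el_mul, ← mul_assoc, xsq, one_mul] at h3
    have h4 := (el_eq_one h3).2.2
    have h5 : B * f = 0 := by
      have hCC : C + C = 0 := CharTwo.add_self_eq_zero C
      linear_combination h4 - hCC
    exact (mul_eq_zero.1 h5).resolve_right hf
  subst hB
  refine Rep.of_conj (hD.xg_mem_group 10 (C / f)) ?_
  have e10 : X 10 (C / f) * (X 6 f * (X 8 q' * el 0 0 C)) * (X 10 (C / f))⁻¹ = X 6 f * X 8 q' := by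
    have h10 : X 10 (C / f) * X 6 f = X 6 f * el 0 (C / f) C := by
      have hh := conj6 (F := F) f 0 (C / f) 0
      rw [el_eq10, xinv, zero_add, div_mul_cancel₀ C hf] at hh
      calc X 10 (C / f) * X 6 f = (X 6 f * X 6 f) * X 10 (C / f) * X 6 f := by rw [xsq, one_mul]
        _ = X 6 f * el 0 (C / f) C := by rw [mul_assoc (X 6 f), mul_assoc (X 6 f), hh]
    rw [← mul_assoc (X 10 _), h10, mul_assoc (X 6 f), mul_assoc (X 6 f), ← mul_assoc (el _ _ _),
      el_mul_x8, ← el_eq10 (C / f), el_inv, CharTwo.neg_eq, CharTwo.neg_eq, mul_assoc (X 8 q'), el_mul,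
      mul_assoc (X 8 q'), el_mul]
    simp [CharTwo.add_self_eq_zero, el_zero]
  rw [e10]
  refine Rep.of_conj (hD.nG_mem_group (chevG2.simple 0) 1) ?_
  rw [← conj_mul, refl_conj (by omega) (by omega), refl_conj (by omega) (by omega), two_lists.1, two_lists.2.1,
    ← el_eq10, ← el_eq9, el_mul, zero_add, add_zero, add_zero]
  exact rep_el _ _ _ fun h => hf (el_eq_one h).2.1

theorem rep_eight {q : F} (hq : q ≠ 0) (a b c : F) (hsq : ∀ v : F, ∃ w : F, w ^ 2 = v)
    (h1 : X 8 q * el a b c * (X 8 q * el a b c) = 1) : Rep (X 8 q * el a b c) := by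
  have hD : Good chevG2 := G2.good
  have ha : a = 0 := by
    have h := h1
    rw [mul_assoc, ← mul_assoc (el a b c), el_mul_x8, mul_assoc, el_mul, ← mul_assoc, xsq, one_mul] at h
    have h4 := (el_eq_one h).2.2
    have hcc : c + c = 0 := CharTwo.add_self_eq_zero c
    have h5 : a * q = 0 := by linear_combination h4 - hcc
    exact (mul_eq_zero.1 h5).resolve_right hq
  subst ha
  refine Rep.of_conj (hD.xg_mem_group 9 (c / q)) ?_
  have e9 : X 9 (c / q) * (X 8 q * el 0 b c) * (X 9 (c / q))⁻¹ = X 8 q * el 0 b 0 := by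
    rw [← el_eq9, el_inv, CharTwo.neg_eq, CharTwo.neg_eq, ← mul_assoc, el_mul_x8, mul_assoc, mul_assoc, el_mul,
      el_mul]
    simp [CharTwo.add_self_eq_zero, div_mul_cancel₀ c hq]
  have h2 := sq_conj (X 9 (c / q)) h1
  rw [e9] at h2 ⊢
  refine Rep.of_conj (hD.nG_mem_group (chevG2.simple 0) 1) ?_
  have e0 : nG chevG2 F (chevG2.simple 0) 1 * (X 8 q * el 0 b 0) * (nG chevG2 F (chevG2.simple 0) 1)⁻¹ =
      X 6 b * (X 8 0 * el q 0 0) := by
    rw [el_eq10, ← conj_mul, refl_conj (by omega) (by omega), refl_conj (by omega) (by omega), two_lists.2.1,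
      two_lists.2.2.1, hD.xg_zero, one_mul, el_eq9]
    exact (comm2 (by simp) b q : Commute (X 6 b) (X 9 q)).eq.symm
  have h3 := sq_conj (nG chevG2 F (chevG2.simple 0) 1) h2
  rw [e0] at h3 ⊢
  by_cases hb : b = 0
  · subst hb
    rw [hD.xg_zero, hD.xg_zero, one_mul, one_mul]
    exact rep_el _ _ _ fun h => hq (el_eq_one h).1
  · exact rep_six hb _ _ _ _ hsq h3

theorem rep_unipotent (f p q a b c : F) (hsq : ∀ v : F, ∃ w : F, w ^ 2 = v)
    {u : GL chevG2.Idx F} (hu : u = X 6 f * (X 7 p * (X 8 q * el a b c)))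
    (h1 : u * u = 1) (hne : u ≠ 1) : Rep u := by
  have hD : Good chevG2 := G2.good
  subst hu
  by_cases hf : f = 0
  · subst hf
    rw [hD.xg_zero, one_mul] at h1 hne ⊢
    by_cases hp : p = 0
    · subst hp
      rw [hD.xg_zero, one_mul] at h1 hne ⊢
      by_cases hq : q = 0
      · subst hq
        rw [hD.xg_zero, one_mul] at hne ⊢
        exact rep_el a b c hne
      · exact rep_eight hq a b c hsq h1
    · -- clear the component at the root `a + b`
      refine Rep.of_conj (hD.xg_mem_group 6 (q / p)) ?_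
      obtain ⟨b₁, c₁, a', e⟩ : ∃ b₁ c₁ a' : F, X 6 (q / p) * (X 7 p * (X 8 q * el a b c)) * (X 6 (q / p))⁻¹ =
          X 7 p * el a' b₁ c₁ := by
        have e76 := comm76 (F := F) p (q / p)
        rw [show X 6 (q / p) * (X 7 p * (X 8 q * el a b c)) * (X 6 (q / p))⁻¹ =
          (X 6 (q / p) * X 7 p) * (X 8 q * el a b c) * (X 6 (q / p))⁻¹ by group, e76,
          mul_div_cancel₀ q hp]
        obtain ⟨a₂, b₂, c₂, h⟩ := (W8.mul (⟨_, _, _, rfl⟩ : W8 q (X 8 q * el (p ^ 2 * (q / p)) (p ^ 3 * (q / p)) (p ^ 3 * (q / p) ^ 2)))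
          (⟨_, _, _, rfl⟩ : W8 q (X 8 q * el a b c))).conj6 (q / p)
        rw [CharTwo.add_self_eq_zero, hD.xg_zero, one_mul] at h
        refine ⟨b₂, c₂, a₂, ?_⟩
        rw [← h]
        group
      have h2 := sq_conj (X 6 (q / p)) h1
      rw [e] at h2 ⊢
      have ha' : a' = 0 := by
        have h3 : X 7 p * el a' b₁ c₁ * (X 7 p)⁻¹ * el a' b₁ c₁ = 1 := by
          simpa only [xinv, mul_assoc] using h2
        rw [conj7, el_mul] at h3
        have h4 := (el_eq_one h3).2.1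
        have hbb : b₁ + b₁ = 0 := CharTwo.add_self_eq_zero b₁
        have h5 : a' * p = 0 := by linear_combination h4 - hbb
        exact (mul_eq_zero.1 h5).resolve_right hp
      subst ha'
      refine Rep.of_conj (hD.nG_mem_group (chevG2.simple 1) 1) ?_
      have e1 : nG chevG2 F (chevG2.simple 1) 1 * (X 7 p * el 0 b₁ c₁) * (nG chevG2 F (chevG2.simple 1) 1)⁻¹ =
          X 8 p * el 0 c₁ b₁ := by
        obtain ⟨-, h7, -, -, h10, h11⟩ := refl_facts
        rw [show el 0 b₁ c₁ = el 0 b₁ 0 * el 0 0 c₁ by rw [el_mul]; simp, el_eq10, el_eq11, ← conj_mul, ← conj_mul,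
          refl_conj (by omega) (by omega), refl_conj (by omega) (by omega), refl_conj (by omega) (by omega),
          h7, h10, h11, ← el_eq11, ← el_eq10, el_mul]
        simp
      have h4 := sq_conj (nG chevG2 F (chevG2.simple 1) 1) h2
      rw [e1] at h4 ⊢
      exact rep_eight hp _ _ _ hsq h4
  · by_cases hp : p = 0
    · subst hp
      rw [hD.xg_zero, one_mul] at h1 ⊢
      exact rep_six hf q a b c hsq h1
    · exfalso
      -- the square has component `f p` at the root `a + b`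
      set r := X 8 q * el a b c with hr
      have hr8 : W8 q r := ⟨_, _, _, rfl⟩
      set r₁ := (X 8 (p * f) * el (p ^ 2 * f) (p ^ 3 * f) (p ^ 3 * f ^ 2)) with hr1
      have hr18 : W8 (p * f) r₁ := ⟨_, _, _, rfl⟩
      have e : X 6 f * (X 7 p * r) * (X 6 f * (X 7 p * r)) =
          (X 7 p * (X 6 f * (r₁ * r) * (X 6 f)⁻¹) * (X 7 p)⁻¹) * r := by
        have e76 := comm76 (F := F) p f
        rw [← hr1] at e76
        rw [xinv, xinv, show X 6 f * (X 7 p * r) * (X 6 f * (X 7 p * r)) =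
          (X 6 f * X 7 p) * r * X 6 f * X 7 p * r by group, e76]
        group
      have h8 := (((hr18.mul hr8).conj6 f).conj7 p).mul hr8
      rw [← e, h1, add_assoc, CharTwo.add_self_eq_zero, add_zero] at h8
      exact mul_ne_zero hp hf h8.eq_zero

/-- The root subgroup of `b`. -/
def R6 : Subgroup (GL chevG2.Idx F) where
  carrier := {g | ∃ t : F, g = X 6 t}
  one_mem' := ⟨0, ((G2.good : Good chevG2).xg_zero 6).symm⟩
  mul_mem' := by
    rintro _ _ ⟨t, rfl⟩ ⟨u, rfl⟩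
    exact ⟨t + u, (G2.good : Good chevG2).xg_add 6 t u⟩
  inv_mem' := by
    rintro _ ⟨t, rfl⟩
    exact ⟨t, xinv 6 t⟩

theorem exists_normal_form {u : GL chevG2.Idx F} (hu : u ∈ chevG2.posUnipotent F) :
    ∃ f p q a b c : F, u = X 6 f * (X 7 p * (X 8 q * el a b c)) := by
  have hD : Good chevG2 := G2.good
  have hle : chevG2.posUnipotent F ≤ R6 ⊔ V := by
    refine (Subgroup.closure_le _).2 ?_
    rintro g ⟨r, t, hr, hg⟩
    rw [hD.eq_xg hg]
    obtain ⟨h1, h2⟩ := G2.valid.isPosRoot_iff.1 hr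
    rcases List.mem_cons.1 (pos_facts r (hn ▸ h1) h2) with rfl | hs
    · exact Subgroup.mem_sup_left ⟨t, rfl⟩
    · exact Subgroup.mem_sup_right (V_xg hs t)
  have hR : (R6 : Subgroup (GL chevG2.Idx F)) ≤
      Subgroup.normalizer ((V : Subgroup (GL chevG2.Idx F)) : Set (GL chevG2.Idx F)) := by
    rintro _ ⟨t, rfl⟩
    exact x6_normalizer_V t
  have h := hle hu
  rw [← SetLike.mem_coe, Subgroup.coe_mul_of_left_le_normalizer_right _ _ hR, Set.mem_mul] at h
  obtain ⟨_, ⟨f, rfl⟩, _, ⟨p, q, l, ⟨a, b, c, rfl⟩, rfl⟩, rfl⟩ := h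
  exact ⟨f, p, q, a, b, c, by rw [mul_assoc (X 7 p)]⟩

theorem not_conj {h : GL chevG2.Idx F} (hh : h ∈ chevG2.group F) :
    h * X 9 1 * h⁻¹ ≠ X 11 1 := by
  intro heq
  have hD : Good chevG2 := G2.good
  set T := BNSetup.data (F := F) hD with hT
  have ax : T.Axioms := BNSetup.axioms hD BNSetup.facts_chevG2
  have hS9 : InS (X 9 (1 : F)) := ⟨1, 0, 0, one_ne_zero, (el_eq9 1).symm⟩
  have hBS : T.B ≤ stabS := borel_le (fun s hs v => pos_stabS hs v) fun h hh => diag_stabS hh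
  set R := chevG2.rootSubgroup F 11 with hR
  have h11 : ∀ s ∈ [6, 7, 8, 9, 10, 11], ∀ v γ : F, Commute (X s v) (X 11 γ) := by
    intro s hs v γ
    simp only [List.mem_cons, List.not_mem_nil, or_false] at hs
    rcases hs with rfl | rfl | rfl | rfl | rfl | rfl
    all_goals first
      | (show _ = _; rw [hD.xg_add, hD.xg_add, add_comm])
      | exact comm2 (by simp) v γ
  have hBR : T.B ≤ Subgroup.normalizer (R : Set (GL chevG2.Idx F)) := by
    refine borel_le (fun s hs v => ?_) fun d hd => ?_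
    · rw [Subgroup.mem_normalizer_iff]
      have key : ∀ v : F, ∀ y ∈ R, X s v * y * (X s v)⁻¹ ∈ R := by
        intro v y hy
        obtain ⟨γ, rfl⟩ := hD.mem_rootSubgroup_iff.1 hy
        rw [(h11 s hs v γ).eq, mul_inv_cancel_right]
        exact hy
      refine fun y => ⟨key v y, fun hy => ?_⟩
      have := key v _ hy
      rw [xinv] at this
      simp only [mul_assoc] at this
      rw [xsq, mul_one, ← mul_assoc, xsq, one_mul] at this
      exact this
    · rw [Subgroup.mem_normalizer_iff]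
      refine fun y => ⟨fun hy => BNSetup.normalisesAll_H G2.good hd 11 (hn ▸ (by omega)) y hy, fun hy => ?_⟩
      have := BNSetup.normalisesAll_H G2.good (inv_mem hd) 11 (hn ▸ (by omega)) _ hy
      simpa [mul_assoc] using this
  rw [← BNSetup.data_grp hD] at hh
  obtain ⟨l, n, hn', hact, b₁, hb₁, b₂, hb₂, e⟩ := RootBN.Data.exists_cell ax hh
  obtain ⟨a, b, c, ha, hy⟩ : InS (b₂ * X 9 1 * b₂⁻¹) := (hBS hb₂ _).2 hS9
  have hny : n * (b₂ * X 9 1 * b₂⁻¹) * n⁻¹ ∈ R := by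
    have h1 := (Subgroup.mem_normalizer_iff.1 (hBR (inv_mem hb₁)) (X 11 (1 : F))).1
      (hD.xg_mem_rootSubgroup 11 1)
    convert h1 using 1
    rw [← heq, e]
    group
  obtain ⟨γ', he⟩ := hD.mem_rootSubgroup_iff.1 hny
  rw [hy] at he
  have hok := weylImages_ok _ (img_mem l)
  simp only [getD_img l (show 9 < 12 by omega), getD_img l (show 10 < 12 by omega),
    getD_img l (show 11 < 12 by omega)] at hok
  obtain ⟨h1, h2, h3, huv, huw, hu10, hu11, hodd, -⟩ := hok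
  have himg : ∀ r < 12, img l r < 12 := fun r hr => by
    have h := ((BNSetup.data (F := F) (G2.good : Good chevG2)).wl l ⟨r, hn ▸ hr⟩).2
    rw [wl_val] at h
    exact hn ▸ h
  have hX : ∀ r (hr : r < 12) (t : F), ∃ t' : F, n * X r t * n⁻¹ = X (img l r) t' := by
    intro r hr t
    have := (hact ⟨r, hn ▸ hr⟩ (X r t)).2 (hD.xg_mem_rootSubgroup r t)
    change _ ∈ chevG2.rootSubgroup F _ at this
    rw [wl_val] at this
    exact hD.mem_rootSubgroup_iff.1 this
  obtain ⟨α, hα⟩ := hX 9 (by omega) a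
  obtain ⟨β, hβ⟩ := hX 10 (by omega) b
  obtain ⟨γ, hγ⟩ := hX 11 (by omega) c
  have hA09 : (G2.cert.A 0 9 : F) ≠ 0 := by simp [list_facts.2.2.2.2.2.2.2.2.2.2.2.1]
  have hα0 : α ≠ 0 := by
    rintro rfl
    rw [hD.xg_zero, mul_inv_eq_one, mul_eq_left] at hα
    exact ha (xg_eq_zero (by omega) hα (i := 0) (by omega) hA09)
  rw [el, ← conj_mul, ← conj_mul, hα, hβ, hγ, ← el_eq11, el] at he
  obtain ⟨i, hi, hodd'⟩ : ∃ i, i < 2 ∧ G2.cert.A i (img l 9) % 2 ≠ 0 := by
    rcases hodd with h | h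
    exacts [⟨0, by omega, h⟩, ⟨1, by omega, h⟩]
  refine mul_ne_zero (cast_odd (F := F) hodd') hα0 ?_
  have e' := congrArg (fun g : GL chevG2.Idx F =>
    ((g : Matrix chevG2.Idx chevG2.Idx F).mulVec (bvec chevG2 F i)) (Sum.inr ⟨img l 9, hn ▸ himg 9 (by omega)⟩)) he
  rw [three_entry (himg 9 (by omega)) (himg 10 (by omega)) (himg 11 (by omega)) h1 h2 h3 _ _ _ i hi
      (img l 9) (himg 9 (by omega)),
    three_entry (by omega) (by omega) (by omega) list_facts.1 list_facts.2.1 list_facts.2.2.1 _ _ _ i hi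
      (img l 9) (himg 9 (by omega))] at e'
  simpa [huv, huw, hu10, hu11] using e'

end Cfsg.Agent.Chev.G2Invol
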